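import Mathlib
import Cfsg.Agent.Lib.Struct76.Basic

/-!
Groups in which every 2-element centralizes a Sylow 2-subgroup (Camina-Herzog), elementary part:
no 2-element of order at least 4 is real, so the elements of order at most 2 of a Sylow 2-subgroup
form an elementary abelian subgroup, and this subgroup is central in the Sylow 2-subgroup.
-/

set_option autoImplicit false

open scoped Pointwise

namespace CfsgLib.CentralTwo

universe u

variable {G : Type*} [Group G] [Finite G]

/-- Every 2-element centralizes a Sylow 2-subgroup. -/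
def Hyp (G : Type*) [Group G] : Prop :=
  ∀ y : G, (∃ k : ℕ, orderOf y = 2 ^ k) →
    ∃ Q : Sylow 2 G, (Q : Subgroup G) ≤ Subgroup.centralizer ({y} : Set G)

theorem mem_sylow_of_mem_normalizer (P : Sylow 2 G) {m : G}
    (hm : m ∈ Subgroup.normalizer ((P : Subgroup G) : Set G)) {k : ℕ} (hk : orderOf m = 2 ^ k) :
    m ∈ (P : Subgroup G) := by
  have h1 : IsPGroup 2 (Subgroup.zpowers m) := by
    refine IsPGroup.of_card (n := k) ?_
    rw [Nat.card_zpowers, hk]
  have h2 : IsPGroup 2 ((P : Subgroup G) ⊔ Subgroup.zpowers m : Subgroup G) :=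
    P.2.to_sup_of_normal_left' h1 (Subgroup.zpowers_le.mpr hm)
  rw [← P.3 h2 le_sup_left]
  exact le_sup_right (α := Subgroup G) (Subgroup.mem_zpowers m)

theorem exists_orderOf_eq_two_pow (P : Sylow 2 G) {x : G} (hx : x ∈ (P : Subgroup G)) :
    ∃ k : ℕ, orderOf x = 2 ^ k := by
  obtain ⟨k, hk⟩ := P.2 ⟨x, hx⟩
  have h : x ^ 2 ^ k = 1 := by simpa using congrArg Subtype.val hk
  obtain ⟨j, -, hj⟩ := (Nat.dvd_prime_pow Nat.prime_two).mp (orderOf_dvd_of_pow_eq_one h)
  exact ⟨j, hj⟩

theorem mem_of_le_centralizer (Q : Sylow 2 G) {y : G} {k : ℕ} (hk : orderOf y = 2 ^ k)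
    (hQ : (Q : Subgroup G) ≤ Subgroup.centralizer ({y} : Set G)) : y ∈ (Q : Subgroup G) := by
  have hcomm : ∀ q ∈ (Q : Subgroup G), q * y = y * q := fun q hq =>
    Subgroup.mem_centralizer_singleton_iff.mp (hQ hq)
  refine mem_sylow_of_mem_normalizer Q ?_ hk
  rw [Subgroup.mem_normalizer_iff]
  intro h
  constructor
  · intro hh
    rwa [← hcomm h hh, mul_inv_cancel_right]
  · intro hh
    have h1 := hcomm _ hh
    rw [inv_mul_cancel_right, mul_assoc y h y⁻¹] at h1
    have h2 : h = y * h * y⁻¹ := by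
      have := mul_left_cancel h1
      rw [mul_assoc]
      exact mul_left_cancel h1
    rwa [← h2] at hh

/-- A 2-element which is conjugate to its inverse is of order at most 2. -/
theorem sq_eq_one_of_real (hH : Hyp G) {y g : G} (hy : ∃ k : ℕ, orderOf y = 2 ^ k)
    (hg : g * y * g⁻¹ = y⁻¹) : y * y = 1 := by
  obtain ⟨Q, hQ⟩ := hH y hy
  obtain ⟨k, hk⟩ := hy
  have hyC : y ∈ Subgroup.centralizer ((Q : Subgroup G) : Set G) := by
    rw [Subgroup.mem_centralizer_iff]
    intro q hq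
    exact Subgroup.mem_centralizer_singleton_iff.mp (hQ hq)
  obtain ⟨n, hn, hn'⟩ := Q.conj_eq_normalizer_conj_of_mem_centralizer y g⁻¹ hyC
    (by rw [inv_inv, hg]; exact Subgroup.inv_mem _ hyC)
  rw [inv_inv, hg] at hn'
  have hn2 : n⁻¹ * y * n = y⁻¹ := hn'.symm
  obtain ⟨a, o, ho, hord⟩ := Nat.exists_eq_two_pow_mul_odd (orderOf_pos n).ne'
  have hiter : ∀ j : ℕ, (n ^ (2 * j + 1))⁻¹ * y * n ^ (2 * j + 1) = y⁻¹ := by
    intro j
    induction j with
    | zero => simpa using hn2
    | succ j ih =>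
      rw [show 2 * (j + 1) + 1 = (2 * j + 1) + 1 + 1 by omega, pow_succ, pow_succ]
      have hn3 : n⁻¹ * y⁻¹ * n = y := by
        have := congrArg (fun x => x⁻¹) hn2
        simpa [mul_assoc] using this
      generalize n ^ (2 * j + 1) = m at ih ⊢
      calc (m * n * n)⁻¹ * y * (m * n * n) = n⁻¹ * (n⁻¹ * (m⁻¹ * y * m) * n) * n := by group
        _ = y⁻¹ := by rw [ih, hn3, hn2]
  obtain ⟨j, rfl⟩ := ho
  have hmQ : n ^ (2 * j + 1) ∈ (Q : Subgroup G) := by
    have hpow : (n ^ (2 * j + 1)) ^ 2 ^ a = 1 := by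
      rw [← pow_mul, mul_comm, ← hord, pow_orderOf_eq_one]
    obtain ⟨b, -, hb⟩ := (Nat.dvd_prime_pow Nat.prime_two).mp (orderOf_dvd_of_pow_eq_one hpow)
    exact mem_sylow_of_mem_normalizer Q (Subgroup.pow_mem _ hn _) hb
  have hfix : (n ^ (2 * j + 1))⁻¹ * y * n ^ (2 * j + 1) = y := by
    rw [mul_assoc, ← Subgroup.mem_centralizer_singleton_iff.mp (hQ hmQ), inv_mul_cancel_left]
  rw [hiter j] at hfix
  exact mul_eq_one_iff_eq_inv.mpr hfix.symm

/-- Elements of square 1 of a Sylow 2-subgroup commute. -/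
theorem involutions_comm (hH : Hyp G) (P : Sylow 2 G) {v w : G} (hv : v ∈ (P : Subgroup G))
    (hw : w ∈ (P : Subgroup G)) (hv2 : v * v = 1) (hw2 : w * w = 1) : v * w = w * v := by
  have hvi : v⁻¹ = v := inv_eq_of_mul_eq_one_right hv2
  have hwi : w⁻¹ = w := inv_eq_of_mul_eq_one_right hw2
  have h : v * (v * w) * v⁻¹ = (v * w)⁻¹ := by
    rw [← mul_assoc, hv2, one_mul, mul_inv_rev, hwi, hvi]
  have h2 := sq_eq_one_of_real hH (exists_orderOf_eq_two_pow P (mul_mem hv hw)) h
  calc v * w = (v * w)⁻¹ := (inv_eq_of_mul_eq_one_right h2).symm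
    _ = w * v := by rw [mul_inv_rev, hwi, hvi]

/-- The elements of square 1 of a Sylow 2-subgroup. -/
def omega (hH : Hyp G) (P : Sylow 2 G) : Subgroup G where
  carrier := {x | x ∈ (P : Subgroup G) ∧ x * x = 1}
  one_mem' := ⟨one_mem _, one_mul 1⟩
  mul_mem' := by
    rintro v w ⟨hv, hv2⟩ ⟨hw, hw2⟩
    refine ⟨mul_mem hv hw, ?_⟩
    calc v * w * (v * w) = v * (w * v) * w := by group
      _ = v * (v * w) * w := by rw [involutions_comm hH P hv hw hv2 hw2]
      _ = (v * v) * (w * w) := by group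
      _ = 1 := by rw [hv2, hw2, one_mul]
  inv_mem' := by
    rintro v ⟨hv, hv2⟩
    exact ⟨inv_mem hv, by rw [← mul_inv_rev, hv2, inv_one]⟩

/-- `y` commutes with every element of square 1 of `P`. -/
def Com (y : G) (P : Sylow 2 G) : Prop := ∀ a ∈ (P : Subgroup G), a * a = 1 → a * y = y * a

omit [Finite G] in
theorem mem_smul_sylow {c x : G} {R : Sylow 2 G} :
    x ∈ ((c • R : Sylow 2 G) : Subgroup G) ↔ c⁻¹ * x * c ∈ (R : Subgroup G) := by
  rw [Sylow.coe_subgroup_smul, Subgroup.mem_pointwise_smul_iff_inv_smul_mem]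
  simp [MulAut.smul_def]

/-- The key step from Sylow's theorem in a normal subgroup which is a 2-group modulo `C`. -/
theorem exists_conj_into {M : Type*} [Group M] [Finite M] (T T' : Sylow 2 M) (K C : Subgroup M)
    [K.Normal] [C.Normal] (hsq : ∀ k ∈ K, k * k ∈ C) :
    ∃ c ∈ C, ∀ x ∈ (T : Subgroup M), x ∈ K → c * x * c⁻¹ ∈ (T' : Subgroup M) := by
  obtain ⟨U, hU⟩ := Struct76.exists_sylow_inf_normal T K
  obtain ⟨U', hU'⟩ := Struct76.exists_sylow_inf_normal T' K
  obtain ⟨k, hk⟩ := MulAction.exists_smul_eq ↥K U U'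
  have hp : IsPGroup 2 (↥K ⧸ C.subgroupOf K) := by
    intro q
    obtain ⟨q, rfl⟩ := QuotientGroup.mk_surjective q
    refine ⟨1, ?_⟩
    rw [pow_one, ← QuotientGroup.mk_pow, QuotientGroup.eq_one_iff, Subgroup.mem_subgroupOf, pow_two]
    exact hsq q q.2
  have htop : C.subgroupOf K ⊔ (U : Subgroup K) = ⊤ := by
    rw [← Subgroup.index_eq_one]
    obtain ⟨n, hn⟩ := IsPGroup.iff_card.mp hp
    have h1 : (C.subgroupOf K ⊔ (U : Subgroup K)).index ∣ 2 ^ n := by
      rw [← hn, ← Subgroup.index_eq_card]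
      exact Subgroup.index_dvd_of_le le_sup_left
    have h2 : (C.subgroupOf K ⊔ (U : Subgroup K)).index ∣ (U : Subgroup K).index :=
      Subgroup.index_dvd_of_le le_sup_right
    obtain ⟨i, -, hi⟩ := (Nat.dvd_prime_pow Nat.prime_two).mp h1
    rcases i with _ | i
    · simpa using hi
    · exact absurd ((Dvd.intro_left _ (pow_succ 2 i).symm).trans (hi ▸ h2)) U.not_dvd_index
  have hmem : k ∈ ((C.subgroupOf K ⊔ (U : Subgroup K) : Subgroup K) : Set K) := by
    rw [htop]; trivial
  rw [Subgroup.normal_mul] at hmem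
  obtain ⟨c, hc, u, hu, rfl⟩ := hmem
  refine ⟨c, Subgroup.mem_subgroupOf.mp hc, fun x hxT hxK => ?_⟩
  have hxU : (⟨x, hxK⟩ : K) ∈ (U : Subgroup K) := by rw [hU]; exact hxT
  have h3 : c * (⟨x, hxK⟩ : K) * c⁻¹ ∈ (U' : Subgroup K) := by
    rw [← hk, Sylow.coe_subgroup_smul, Subgroup.mem_pointwise_smul_iff_inv_smul_mem]
    have h4 := (U : Subgroup K).mul_mem ((U : Subgroup K).mul_mem ((U : Subgroup K).inv_mem hu) hxU) hu
    simpa [MulAut.smul_def, mul_assoc] using h4
  rw [hU'] at h3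
  exact h3

theorem com_transfer_aux (hH : Hyp G) (n : ℕ) :
    ∀ (P Q : Sylow 2 G) (y : G),
      Nat.card G - Nat.card ((P : Subgroup G) ⊓ (Q : Subgroup G) : Subgroup G) < n →
      y ∈ (P : Subgroup G) → y ∈ (Q : Subgroup G) → Com y P → Com y Q := by
  induction n with
  | zero => intro P Q y h; omega
  | succ n ih =>
    intro P Q y hn hyP hyQ hcom
    have hstep : ∀ (R R' : Sylow 2 G) (b : G),
        (P : Subgroup G) ⊓ (Q : Subgroup G) ≤ (R : Subgroup G) →
        (P : Subgroup G) ⊓ (Q : Subgroup G) ≤ (R' : Subgroup G) →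
        b ∈ (R : Subgroup G) → b ∈ (R' : Subgroup G) →
        b ∉ (P : Subgroup G) ⊓ (Q : Subgroup G) → Com y R → Com y R' := by
      intro R R' b hR hR' hbR hbR' hb
      refine ih R R' y ?_ (hR ⟨hyP, hyQ⟩) (hR' ⟨hyP, hyQ⟩)
      have hlt : (P : Subgroup G) ⊓ (Q : Subgroup G) < (R : Subgroup G) ⊓ (R' : Subgroup G) :=
        lt_of_le_of_ne (le_inf hR hR') fun h => hb (h ▸ ⟨hbR, hbR'⟩)
      have h1 : Nat.card ((P : Subgroup G) ⊓ (Q : Subgroup G) : Subgroup G) <
          Nat.card ((R : Subgroup G) ⊓ (R' : Subgroup G) : Subgroup G) := by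
        refine lt_of_le_of_ne (Subgroup.card_le_of_le hlt.le) fun h => hlt.ne ?_
        exact Subgroup.eq_of_le_of_card_ge hlt.le h.ge
      have h2 := Subgroup.card_le_card_group ((R : Subgroup G) ⊓ (R' : Subgroup G))
      omega
    set D : Subgroup G := (P : Subgroup G) ⊓ (Q : Subgroup G) with hD
    by_cases hsub : ∀ a ∈ (P : Subgroup G), a * a = 1 → a ∈ (Q : Subgroup G)
    · intro a haQ ha2
      have heq : omega hH P = omega hH Q := by
        refine Subgroup.eq_of_le_of_card_ge (fun x hx => ⟨hsub x hx.1 hx.2, hx.2⟩) ?_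
        obtain ⟨g, hg⟩ := MulAction.exists_smul_eq G Q P
        refine Nat.card_le_card_of_injective (fun x : omega hH Q =>
          (⟨g * (x : G) * g⁻¹, ?_, ?_⟩ : omega hH P)) ?_
        · rw [← hg, mem_smul_sylow]
          simpa [mul_assoc] using x.2.1
        · calc g * (x : G) * g⁻¹ * (g * (x : G) * g⁻¹) = g * ((x : G) * x) * g⁻¹ := by group
            _ = 1 := by rw [x.2.2, mul_one, mul_inv_cancel]
        · intro x₁ x₂ h
          have h' := congrArg Subtype.val h
          exact Subtype.ext (mul_left_cancel (mul_right_cancel h'))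
      have : a ∈ omega hH P := heq ▸ (⟨haQ, ha2⟩ : a ∈ omega hH Q)
      exact hcom a this.1 ha2
    simp only [not_forall] at hsub
    obtain ⟨a₀, ha₀P, ha₀2, ha₀Q⟩ := hsub
    have hDQ : D < (Q : Subgroup G) := by
      refine lt_of_le_of_ne inf_le_right fun h => ha₀Q ?_
      have hQP : (Q : Subgroup G) ≤ (P : Subgroup G) := inf_eq_right.mp h
      rw [← Q.3 P.2 hQP]
      exact ha₀P
    have hPnA : (P : Subgroup G) ≤ Subgroup.normalizer (omega hH P : Set G) := by
      intro p hp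
      rw [Subgroup.mem_normalizer_iff]
      intro x
      constructor
      · rintro ⟨hx, hx2⟩
        refine ⟨mul_mem (mul_mem hp hx) (inv_mem hp), ?_⟩
        calc p * x * p⁻¹ * (p * x * p⁻¹) = p * (x * x) * p⁻¹ := by group
          _ = 1 := by rw [hx2, mul_one, mul_inv_cancel]
      · rintro ⟨hx, hx2⟩
        refine ⟨?_, ?_⟩
        · have := mul_mem (mul_mem (inv_mem hp) hx) hp
          simpa [mul_assoc] using this
        · calc x * x = p⁻¹ * (p * x * p⁻¹ * (p * x * p⁻¹)) * p := by group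
            _ = 1 := by rw [hx2, mul_one, inv_mul_cancel]
    obtain ⟨a, haA, haD, haN⟩ : ∃ a ∈ omega hH P, a ∉ D ∧ a ∈ Subgroup.normalizer (D : Set G) := by
      have hXP : omega hH P ⊔ D ≤ (P : Subgroup G) := sup_le (fun x hx => hx.1) inf_le_left
      have hlt : D < omega hH P ⊔ D :=
        lt_of_le_of_ne le_sup_right fun h => ha₀Q
          ((h ▸ (le_sup_left (α := Subgroup G) (⟨ha₀P, ha₀2⟩ : a₀ ∈ omega hH P)) : a₀ ∈ D)).2
      have hnil : Group.IsNilpotent (omega hH P ⊔ D : Subgroup G) := (P.2.to_le hXP).isNilpotent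
      have hne : D.subgroupOf (omega hH P ⊔ D) < ⊤ := by
        rw [lt_top_iff_ne_top, Ne, Subgroup.subgroupOf_eq_top]
        exact not_le_of_gt hlt
      obtain ⟨⟨z, hz⟩, hzN, hzD⟩ :=
        SetLike.exists_of_lt (Group.normalizerCondition_of_isNilpotent _ hne)
      have hz' : z ∈ ((omega hH P : Set G) * (D : Set G)) := by
        rw [← Subgroup.coe_mul_of_right_le_normalizer_left _ _ (inf_le_left.trans hPnA)]
        exact hz
      obtain ⟨a, ha, d, hd, rfl⟩ := hz'
      refine ⟨a, ha, fun h => hzD (mul_mem h hd), ?_⟩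
      have hzG : a * d ∈ Subgroup.normalizer (D : Set G) := by
        rw [Subgroup.mem_normalizer_iff] at hzN ⊢
        intro h
        constructor
        · intro hh
          exact (hzN ⟨h, le_sup_right (α := Subgroup G) hh⟩).mp hh
        · intro hh
          have hhX : h ∈ omega hH P ⊔ D := by
            have h2 := mul_mem (mul_mem (inv_mem hz) (le_sup_right (α := Subgroup G) hh)) hz
            simpa [mul_assoc] using h2
          exact (hzN ⟨h, hhX⟩).mpr hh
      have := mul_mem hzG (inv_mem (Subgroup.le_normalizer hd))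
      simpa using this
    set M : Subgroup G := Subgroup.normalizer (D : Set G) with hM
    obtain ⟨b, hbQ, hbD, hbN⟩ : ∃ b ∈ (Q : Subgroup G), b ∉ D ∧ b ∈ M := by
      have hnil : Group.IsNilpotent (Q : Subgroup G) := Q.2.isNilpotent
      have hne : D.subgroupOf (Q : Subgroup G) < ⊤ := by
        rw [lt_top_iff_ne_top, Ne, Subgroup.subgroupOf_eq_top]
        exact not_le_of_gt hDQ
      obtain ⟨⟨z, hz⟩, hzN, hzD⟩ :=
        SetLike.exists_of_lt (Group.normalizerCondition_of_isNilpotent _ hne)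
      refine ⟨z, hz, fun h => hzD h, ?_⟩
      rw [hM, Subgroup.mem_normalizer_iff]
      rw [Subgroup.mem_normalizer_iff] at hzN
      intro h
      constructor
      · intro hh
        exact (hzN ⟨h, hDQ.le hh⟩).mp hh
      · intro hh
        have hhQ : h ∈ (Q : Subgroup G) := by
          have h2 := mul_mem (mul_mem (inv_mem hz) (hDQ.le hh)) hz
          simpa [mul_assoc] using h2
        exact (hzN ⟨h, hhQ⟩).mpr hh
    have hcD : ∀ k ∈ M, ∀ d ∈ D, k * d * k⁻¹ ∈ D := fun k hk d hd =>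
      (Subgroup.mem_normalizer_iff.mp hk d).mp hd
    -- the stabiliser of the chain
    let K : Subgroup M :=
      { carrier := {k | (∀ x ∈ D, x * x = 1 → (k : G) * x * (k : G)⁻¹ = x) ∧
          ∀ d ∈ D, ((k : G) * d * (k : G)⁻¹ * d⁻¹) * ((k : G) * d * (k : G)⁻¹ * d⁻¹) = 1}
        one_mem' := ⟨fun x _ _ => by simp, fun d _ => by simp⟩
        mul_mem' := by
          rintro k l ⟨hk1, hk2⟩ ⟨hl1, hl2⟩
          refine ⟨fun x hx hx2 => ?_, fun d hd => ?_⟩
          · calc ((k * l : M) : G) * x * ((k * l : M) : G)⁻¹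
                = (k : G) * ((l : G) * x * (l : G)⁻¹) * (k : G)⁻¹ := by push_cast; group
              _ = x := by rw [hl1 x hx hx2, hk1 x hx hx2]
          · have hw : (l : G) * d * (l : G)⁻¹ * d⁻¹ ∈ D := mul_mem (hcD l l.2 d hd) (inv_mem hd)
            have hv : (k : G) * d * (k : G)⁻¹ * d⁻¹ ∈ D := mul_mem (hcD k k.2 d hd) (inv_mem hd)
            have heq : ((k * l : M) : G) * d * ((k * l : M) : G)⁻¹ * d⁻¹ =
                ((l : G) * d * (l : G)⁻¹ * d⁻¹) * ((k : G) * d * (k : G)⁻¹ * d⁻¹) := by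
              calc ((k * l : M) : G) * d * ((k * l : M) : G)⁻¹ * d⁻¹
                  = (k : G) * ((l : G) * d * (l : G)⁻¹ * d⁻¹) * (k : G)⁻¹ *
                      ((k : G) * d * (k : G)⁻¹ * d⁻¹) := by push_cast; group
                _ = _ := by rw [hk1 _ hw (hl2 d hd)]
            rw [heq]
            exact ((omega hH P).mul_mem ⟨hw.1, hl2 d hd⟩ ⟨hv.1, hk2 d hd⟩).2
        inv_mem' := by
          rintro k ⟨hk1, hk2⟩
          refine ⟨fun x hx hx2 => ?_, fun d hd => ?_⟩
          · nth_rewrite 1 [← hk1 x hx hx2]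
            push_cast; group
          · have hv : (k : G) * d * (k : G)⁻¹ * d⁻¹ ∈ D := mul_mem (hcD k k.2 d hd) (inv_mem hd)
            have hfix := hk1 _ hv (hk2 d hd)
            have hsq := hk2 d hd
            generalize hw : (k : G) * d * (k : G)⁻¹ * d⁻¹ = w at hv hfix hsq
            have hd' : (k : G) * d * (k : G)⁻¹ = w * d := by rw [← hw, inv_mul_cancel_right]
            have hfix' : (k : G)⁻¹ * w * (k : G) = w := by
              nth_rewrite 1 [← hfix]; group
            have heq : ((k⁻¹ : M) : G) * d * ((k⁻¹ : M) : G)⁻¹ * d⁻¹ = w⁻¹ := by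
              have h3 : d = w * ((k : G)⁻¹ * d * (k : G)) := by
                calc d = (k : G)⁻¹ * ((k : G) * d * (k : G)⁻¹) * (k : G) := by group
                  _ = ((k : G)⁻¹ * w * (k : G)) * ((k : G)⁻¹ * d * (k : G)) := by rw [hd']; group
                  _ = w * ((k : G)⁻¹ * d * (k : G)) := by rw [hfix']
              have h4 : (k : G)⁻¹ * d * (k : G) = w⁻¹ * d := by
                calc (k : G)⁻¹ * d * (k : G) = w⁻¹ * (w * ((k : G)⁻¹ * d * (k : G))) := by group
                  _ = w⁻¹ * d := by rw [← h3]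
              push_cast
              rw [inv_inv, h4, mul_inv_cancel_right]
            rw [heq, ← mul_inv_rev, hsq, inv_one] }
    have hKn : K.Normal := by
      refine ⟨fun k hk n => ⟨fun x hx hx2 => ?_, fun d hd => ?_⟩⟩
      · have hx' : (n : G)⁻¹ * x * (n : G) ∈ D := by
          have := hcD _ (inv_mem n.2) x hx
          rwa [inv_inv] at this
        have hx'2 : (n : G)⁻¹ * x * (n : G) * ((n : G)⁻¹ * x * (n : G)) = 1 := by
          calc (n : G)⁻¹ * x * (n : G) * ((n : G)⁻¹ * x * (n : G))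
              = (n : G)⁻¹ * (x * x) * (n : G) := by group
            _ = 1 := by rw [hx2, mul_one, inv_mul_cancel]
        have h := hk.1 _ hx' hx'2
        calc ((n * k * n⁻¹ : M) : G) * x * ((n * k * n⁻¹ : M) : G)⁻¹
            = (n : G) * ((k : G) * ((n : G)⁻¹ * x * (n : G)) * (k : G)⁻¹) * (n : G)⁻¹ := by
              push_cast; group
          _ = x := by rw [h]; group
      · have hd' : (n : G)⁻¹ * d * (n : G) ∈ D := by
          have := hcD _ (inv_mem n.2) d hd
          rwa [inv_inv] at this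
        have h := hk.2 _ hd'
        calc _ = (n : G) * (((k : G) * ((n : G)⁻¹ * d * (n : G)) * (k : G)⁻¹ *
              ((n : G)⁻¹ * d * (n : G))⁻¹) * ((k : G) * ((n : G)⁻¹ * d * (n : G)) * (k : G)⁻¹ *
              ((n : G)⁻¹ * d * (n : G))⁻¹)) * (n : G)⁻¹ := by push_cast; group
          _ = 1 := by rw [h]; group
    let C : Subgroup M := (Subgroup.centralizer (D : Set G)).subgroupOf M
    have hCn : C.Normal := by
      refine ⟨fun c hc n => ?_⟩
      rw [Subgroup.mem_subgroupOf, Subgroup.mem_centralizer_iff] at hc ⊢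
      intro d hd
      have hd' : (n : G)⁻¹ * d * (n : G) ∈ D := by
        have := hcD _ (inv_mem n.2) d hd
        rwa [inv_inv] at this
      have h := hc _ hd'
      push_cast
      calc d * ((n : G) * (c : G) * (n : G)⁻¹)
          = (n : G) * ((n : G)⁻¹ * d * (n : G) * (c : G)) * (n : G)⁻¹ := by group
        _ = _ := by rw [h]; group
    have hsq : ∀ k ∈ K, k * k ∈ C := by
      intro k hk
      rw [Subgroup.mem_subgroupOf, Subgroup.mem_centralizer_iff]
      intro d hd
      have hv : (k : G) * d * (k : G)⁻¹ * d⁻¹ ∈ D := mul_mem (hcD k k.2 d hd) (inv_mem hd)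
      have hfix := hk.1 _ hv (hk.2 d hd)
      have hone := hk.2 d hd
      generalize hw : (k : G) * d * (k : G)⁻¹ * d⁻¹ = w at hv hfix hone
      have hd' : (k : G) * d * (k : G)⁻¹ = w * d := by rw [← hw, inv_mul_cancel_right]
      have h2 : (k : G) * (k : G) * d * ((k : G) * (k : G))⁻¹ = d := by
        calc (k : G) * (k : G) * d * ((k : G) * (k : G))⁻¹
            = (k : G) * ((k : G) * d * (k : G)⁻¹) * (k : G)⁻¹ := by group
          _ = ((k : G) * w * (k : G)⁻¹) * ((k : G) * d * (k : G)⁻¹) := by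
              nth_rewrite 1 [hd']; group
          _ = w * w * d := by rw [hfix, hd', ← mul_assoc]
          _ = d := by rw [hone, one_mul]
      push_cast
      calc d * ((k : G) * (k : G))
          = (k : G) * (k : G) * d * ((k : G) * (k : G))⁻¹ * ((k : G) * (k : G)) := by rw [h2]
        _ = (k : G) * (k : G) * d := by group
    have haK : (⟨a, haN⟩ : M) ∈ K := by
      refine ⟨fun x hx hx2 => ?_, fun d hd => ?_⟩
      · show a * x * a⁻¹ = x
        rw [involutions_comm hH P haA.1 hx.1 haA.2 hx2, mul_inv_cancel_right]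
      · have h1 : d * a⁻¹ * d⁻¹ ∈ omega hH P :=
          (Subgroup.mem_normalizer_iff.mp (hPnA hd.1) _).mp (inv_mem haA)
        have h2 : a * (d * a⁻¹ * d⁻¹) ∈ omega hH P := mul_mem haA h1
        show a * d * a⁻¹ * d⁻¹ * (a * d * a⁻¹ * d⁻¹) = 1
        rw [show a * d * a⁻¹ * d⁻¹ = a * (d * a⁻¹ * d⁻¹) by group]
        exact h2.2
    obtain ⟨T, hT⟩ :=
      (P.2.comap_subtype (K := M)).exists_le_sylow
    obtain ⟨T', hT'⟩ :=
      (Q.2.comap_subtype (K := M)).exists_le_sylow
    obtain ⟨R₁, hR₁⟩ := (T.2.map M.subtype).exists_le_sylow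
    obtain ⟨R₃, hR₃⟩ := (T'.2.map M.subtype).exists_le_sylow
    have hR₁' : ∀ x ∈ (P : Subgroup G), x ∈ M → x ∈ (R₁ : Subgroup G) := fun x hx hxM =>
      hR₁ ⟨⟨x, hxM⟩, hT hx, rfl⟩
    have hR₃' : ∀ x ∈ (Q : Subgroup G), x ∈ M → x ∈ (R₃ : Subgroup G) := fun x hx hxM =>
      hR₃ ⟨⟨x, hxM⟩, hT' hx, rfl⟩
    obtain ⟨c, hc, hcT⟩ := exists_conj_into T T' K C hsq
    have hcC : ∀ d ∈ D, d * (c : G) = (c : G) * d := fun d hd =>
      Subgroup.mem_centralizer_iff.mp (Subgroup.mem_subgroupOf.mp hc) d hd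
    have hD₁ : D ≤ (R₁ : Subgroup G) := fun x hx => hR₁' x hx.1 (Subgroup.le_normalizer hx)
    have hD₃ : D ≤ (R₃ : Subgroup G) := fun x hx => hR₃' x hx.2 (Subgroup.le_normalizer hx)
    have hD₂ : D ≤ (((c : G) • R₁ : Sylow 2 G) : Subgroup G) := by
      intro x hx
      rw [mem_smul_sylow, mul_assoc, hcC x hx, inv_mul_cancel_left]
      exact hD₁ hx
    have h₁ : Com y R₁ := hstep P R₁ a inf_le_left hD₁ haA.1 (hR₁' a haA.1 haN) haD hcom
    have h₂ : Com y ((c : G) • R₁) := by
      intro x hx hx2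
      rw [mem_smul_sylow] at hx
      have h := h₁ _ hx (by
        calc (c : G)⁻¹ * x * c * ((c : G)⁻¹ * x * c) = (c : G)⁻¹ * (x * x) * c := by group
          _ = 1 := by rw [hx2, mul_one, inv_mul_cancel])
      have hyc : y * (c : G) = (c : G) * y := hcC y ⟨hyP, hyQ⟩
      calc x * y = (c : G) * (((c : G)⁻¹ * x * c) * y) * (c : G)⁻¹ := by
            rw [show (c : G) * (((c : G)⁻¹ * x * c) * y) * (c : G)⁻¹ =
              x * ((c : G) * y) * (c : G)⁻¹ by group, ← hyc]; group
        _ = (c : G) * (y * ((c : G)⁻¹ * x * c)) * (c : G)⁻¹ := by rw [h]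
        _ = ((c : G) * y) * (c : G)⁻¹ * x := by group
        _ = y * x := by rw [← hyc, mul_inv_cancel_right]
    have hcat : (c : G) * a * (c : G)⁻¹ ∈ (R₃ : Subgroup G) :=
      hR₃ ⟨c * ⟨a, haN⟩ * c⁻¹, hcT _ (hT haA.1) haK, rfl⟩
    have hcaD : (c : G) * a * (c : G)⁻¹ ∉ D := by
      intro h
      apply haD
      have h5 := hcD _ (inv_mem c.2) _ h
      simpa [mul_assoc] using h5
    have h₃ : Com y R₃ := by
      refine hstep _ R₃ _ hD₂ hD₃ ?_ hcat hcaD h₂
      rw [mem_smul_sylow]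
      simpa [mul_assoc] using hR₁' a haA.1 haN
    exact hstep R₃ Q b hD₃ inf_le_right (hR₃' b hbQ hbN) hbQ hbD h₃

/-- The elements of square 1 of a Sylow 2-subgroup are central in it. -/
theorem involution_central (hH : Hyp G) (P : Sylow 2 G) {a y : G} (ha : a ∈ (P : Subgroup G))
    (ha2 : a * a = 1) (hy : y ∈ (P : Subgroup G)) : a * y = y * a := by
  have hk := exists_orderOf_eq_two_pow P hy
  obtain ⟨Q, hQ⟩ := hH y hk
  obtain ⟨k, hk⟩ := hk
  have hcom : Com y Q := fun b hb _ => Subgroup.mem_centralizer_singleton_iff.mp (hQ hb)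
  exact com_transfer_aux hH _ Q P y (Nat.lt_succ_self _) (mem_of_le_centralizer Q hk hQ) hy hcom
    a ha ha2

end CfsgLib.CentralTwo
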