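import Cfsg.Agent.Lib.CentralTwo.Basic

/-!
Camina-Herzog: if every 2-element centralizes a Sylow 2-subgroup, the Sylow 2-subgroups are
abelian.
-/

set_option autoImplicit false

namespace CfsgLib.CentralTwo

universe u

theorem orderOf_conj {G : Type*} [Group G] (g x : G) : orderOf (g * x * g⁻¹) = orderOf x :=
  orderOf_injective (MulAut.conj g).toMonoidHom (MulEquiv.injective _) x

theorem abelian_aux (n : ℕ) : ∀ (G : Type u) [Group G] [Finite G], Nat.card G < n → Hyp G →
    ∀ P : Sylow 2 G, ∀ x ∈ (P : Subgroup G), ∀ y ∈ (P : Subgroup G), x * y = y * x := by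
  induction n with
  | zero => intro G _ _ h; omega
  | succ n ih =>
    intro G _ _ hn hH P
    by_cases hcen : ∀ v ∈ (P : Subgroup G), v * v = 1 → ∀ g : G, g * v = v * g
    · suffices ∀ N : ℕ, ∀ x ∈ (P : Subgroup G), orderOf x < N →
          ∀ y ∈ (P : Subgroup G), x * y = y * x from
        fun x hx y hy => this _ x hx (Nat.lt_succ_self _) y hy
      intro N
      induction N with
      | zero => intro x _ h; omega
      | succ N ihN =>
        intro x hx hxN y hy
        obtain ⟨e, he⟩ := exists_orderOf_eq_two_pow P hx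
        rcases e with _ | e
        · rw [pow_zero, orderOf_eq_one_iff] at he
          rw [he, one_mul, mul_one]
        obtain ⟨Q, hQ⟩ := hH x ⟨_, he⟩
        obtain ⟨g, hg⟩ := MulAction.exists_smul_eq G Q P
        set z := g * x * g⁻¹ with hz
        have hzc : ∀ p ∈ (P : Subgroup G), z * p = p * z := by
          intro p hp
          rw [← hg, mem_smul_sylow] at hp
          have h := Subgroup.mem_centralizer_singleton_iff.mp (hQ hp)
          calc z * p = g * (x * (g⁻¹ * p * g)) * g⁻¹ := by rw [hz]; group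
            _ = g * (g⁻¹ * p * g * x) * g⁻¹ := by rw [h]
            _ = p * z := by rw [hz]; group
        have hzP : z ∈ (P : Subgroup G) := by
          rw [← hg, mem_smul_sylow, hz]
          simpa [mul_assoc] using mem_of_le_centralizer Q he hQ
        set v := x ^ 2 ^ e with hv
        have hv2 : v * v = 1 := by
          rw [hv, ← pow_two, ← pow_mul, ← pow_succ, ← he, pow_orderOf_eq_one]
        have hzv : z ^ 2 ^ e = v := by
          rw [hz, conj_pow, ← hv, hcen v (pow_mem hx _) hv2 g, mul_inv_cancel_right]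
        have hh : (z⁻¹ * x) ^ 2 ^ e = 1 := by
          rw [Commute.mul_pow (Commute.inv_left (hzc x hx : Commute z x)), inv_pow, hzv,
            inv_mul_cancel]
        have hlt : orderOf (z⁻¹ * x) < N := by
          have h1 : orderOf (z⁻¹ * x) ≤ 2 ^ e :=
            Nat.le_of_dvd (by positivity) (orderOf_dvd_of_pow_eq_one hh)
          have h2 : 2 ^ e < 2 ^ (e + 1) := Nat.pow_lt_pow_right one_lt_two (Nat.lt_succ_self e)
          omega
        have hc := ihN _ (mul_mem (inv_mem hzP) hx) hlt y hy
        calc x * y = z * ((z⁻¹ * x) * y) := by group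
          _ = (z * y) * (z⁻¹ * x) := by rw [hc]; group
          _ = y * x := by rw [hzc y hy]; group
    simp only [not_forall] at hcen
    obtain ⟨v, hvP, hv2, g, hg⟩ := hcen
    set C := Subgroup.centralizer ({v} : Set G) with hC
    have hCne : C ≠ ⊤ := fun h => hg (Subgroup.mem_centralizer_singleton_iff.mp
      (h ▸ Subgroup.mem_top g : g ∈ C))
    have hcard : Nat.card C < n := by
      have h1 : Nat.card C < Nat.card G := by
        refine lt_of_le_of_ne C.card_le_card_group fun h => hCne ?_
        exact Subgroup.eq_top_of_card_eq C h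
      omega
    have hPC : (P : Subgroup G) ≤ C := fun p hp =>
      Subgroup.mem_centralizer_singleton_iff.mpr (involution_central hH P hvP hv2 hp).symm
    have hHC : Hyp C := by
      intro y hy
      have hy' : ∃ k : ℕ, orderOf (y : G) = 2 ^ k := by
        obtain ⟨k, hk⟩ := hy
        exact ⟨k, by rw [Subgroup.orderOf_coe, hk]⟩
      obtain ⟨Q, hQ⟩ := hH (y : G) hy'
      set Cy := Subgroup.centralizer ({(y : G)} : Set G) with hCy
      have hvCy : v ∈ Cy := Subgroup.mem_centralizer_singleton_iff.mpr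
        (Subgroup.mem_centralizer_singleton_iff.mp y.2).symm
      have hvp : IsPGroup 2 (Subgroup.zpowers (⟨v, hvCy⟩ : Cy)) := by
        obtain ⟨k, hk⟩ := exists_orderOf_eq_two_pow P hvP
        refine IsPGroup.of_card (n := k) ?_
        rw [Nat.card_zpowers, Subgroup.orderOf_mk, hk]
      obtain ⟨Q₀, hQ₀⟩ := hvp.exists_le_sylow
      obtain ⟨c, hc⟩ := MulAction.exists_smul_eq Cy (Q.subtype hQ) Q₀
      have hvQ : (c : G)⁻¹ * v * c ∈ (Q : Subgroup G) := by
        have h := hQ₀ (Subgroup.mem_zpowers (⟨v, hvCy⟩ : Cy))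
        rw [← hc, mem_smul_sylow, Sylow.coe_subtype, Subgroup.mem_subgroupOf] at h
        simpa using h
      set Q' : Sylow 2 G := (c : G) • Q with hQ'
      have hvQ' : v ∈ (Q' : Subgroup G) := mem_smul_sylow.mpr hvQ
      have hQ'C : (Q' : Subgroup G) ≤ C := fun q hq =>
        Subgroup.mem_centralizer_singleton_iff.mpr (involution_central hH Q' hvQ' hv2 hq).symm
      refine ⟨Q'.subtype hQ'C, fun q hq => ?_⟩
      rw [Sylow.coe_subtype, Subgroup.mem_subgroupOf, hQ', mem_smul_sylow] at hq
      rw [Subgroup.mem_centralizer_singleton_iff]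
      apply Subtype.ext
      have h := Subgroup.mem_centralizer_singleton_iff.mp (hQ hq)
      have hcy := Subgroup.mem_centralizer_singleton_iff.mp c.2
      show (q : G) * (y : G) = (y : G) * (q : G)
      calc (q : G) * (y : G)
          = (c : G) * (((c : G)⁻¹ * q * c) * y) * (c : G)⁻¹ := by
            rw [show (c : G) * (((c : G)⁻¹ * q * c) * y) * (c : G)⁻¹ =
              (q : G) * ((c : G) * y) * (c : G)⁻¹ by group, hcy]; group
        _ = (c : G) * ((y : G) * ((c : G)⁻¹ * q * c)) * (c : G)⁻¹ := by rw [h]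
        _ = ((c : G) * (y : G)) * (c : G)⁻¹ * q := by group
        _ = (y : G) * (q : G) := by rw [hcy, mul_inv_cancel_right]
    intro x hx y hy
    exact congrArg Subtype.val (ih C hcard hHC (P.subtype hPC) ⟨x, hPC hx⟩
      (by simpa [Subgroup.mem_subgroupOf] using hx) ⟨y, hPC hy⟩
      (by simpa [Subgroup.mem_subgroupOf] using hy))

/-- Camina-Herzog. -/
theorem isMulCommutative_sylow {G : Type u} [Group G] [Finite G] (hH : Hyp G) (P : Sylow 2 G) :
    IsMulCommutative (P : Subgroup G) :=
  ⟨⟨fun x y => Subtype.ext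
    (abelian_aux _ G (Nat.lt_succ_self _) hH P x x.2 y y.2)⟩⟩

/-- In a group with abelian Sylow 2-subgroups every 2-element centralizes one. -/
theorem hyp_of_isMulCommutative {G : Type*} [Group G] [Finite G] (P : Sylow 2 G)
    (hP : IsMulCommutative (P : Subgroup G)) : Hyp G := by
  intro y hy
  obtain ⟨k, hk⟩ := hy
  have hyp : IsPGroup 2 (Subgroup.zpowers y) := IsPGroup.of_card (n := k)
    (by rw [Nat.card_zpowers, hk])
  obtain ⟨Q, hQ⟩ := hyp.exists_le_sylow
  refine ⟨Q, fun q hq => ?_⟩
  obtain ⟨g, hg⟩ := MulAction.exists_smul_eq G P Q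
  have hyQ : y ∈ (Q : Subgroup G) := hQ (Subgroup.mem_zpowers y)
  rw [← hg, mem_smul_sylow] at hq hyQ
  have h : g⁻¹ * q * g * (g⁻¹ * y * g) = g⁻¹ * y * g * (g⁻¹ * q * g) :=
    congrArg Subtype.val (hP.1.comm ⟨_, hq⟩ ⟨_, hyQ⟩)
  rw [Subgroup.mem_centralizer_singleton_iff]
  calc q * y = g * ((g⁻¹ * q * g) * (g⁻¹ * y * g)) * g⁻¹ := by group
    _ = g * ((g⁻¹ * y * g) * (g⁻¹ * q * g)) * g⁻¹ := by rw [h]
    _ = y * q := by group

/-- Odd class size gives a centralized Sylow 2-subgroup. -/
theorem hyp_of_odd_index {G : Type*} [Group G] [Finite G]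
    (h : ∀ x : G, (∃ k : ℕ, orderOf x = 2 ^ k) →
      ¬ 2 ∣ (Subgroup.centralizer ({x} : Set G)).index) : Hyp G := by
  intro y hy
  set C := Subgroup.centralizer ({y} : Set G) with hC
  obtain ⟨T⟩ : Nonempty (Sylow 2 C) := inferInstance
  have hT : IsPGroup 2 ((T : Subgroup C).map C.subtype) := T.2.map _
  have hidx : ¬ 2 ∣ ((T : Subgroup C).map C.subtype).index := by
    rw [Subgroup.index_map_subtype]
    intro hd
    rcases (Nat.Prime.dvd_mul Nat.prime_two).mp hd with h1 | h1
    · exact T.not_dvd_index h1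
    · exact h y hy h1
  refine ⟨hT.toSylow hidx, ?_⟩
  rw [IsPGroup.toSylow_coe]
  exact Subgroup.map_subtype_le _

end CfsgLib.CentralTwo
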